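/-
Field automorphisms of `ℂ` with prescribed action on roots of unity (namespace `Cfsg.Agent.GaloisPow`).

Main results: `exists_ringEquiv_extend`, `exists_ringAut`.
-/
import Cfsg.Agent.EqLemmas

set_option autoImplicit false

namespace Cfsg.Agent.GaloisPow

universe u v

open Cardinal

/-- Two uncountable algebraically closed extensions of one countable field, of the same cardinality,
are isomorphic over it. -/
theorem exists_ringEquiv_over (R : Type u) (K L : Type u) [Field R] [Field K] [Field L]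
    [Algebra R K] [Algebra R L] [IsAlgClosed K] [IsAlgClosed L] (hR : #R ≤ ℵ₀) (hK : ℵ₀ < #K)
    (hKL : #K = #L) :
    ∃ f : K ≃+* L, ∀ r : R, f (algebraMap R K r) = algebraMap R L r := by
  obtain ⟨s, hs⟩ := exists_isTranscendenceBasis R K
  obtain ⟨t, ht⟩ := exists_isTranscendenceBasis R L
  have h1 := IsAlgClosed.cardinal_eq_cardinal_transcendence_basis_of_aleph0_lt' _ hs hR hK
  have h2 := IsAlgClosed.cardinal_eq_cardinal_transcendence_basis_of_aleph0_lt' _ ht hR (hKL ▸ hK)
  obtain ⟨e⟩ := Cardinal.eq.mp (h1.symm.trans (hKL.trans h2))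
  let _ := IsAlgClosed.isAlgClosure_of_transcendence_basis ((↑) : s → K) hs
  let _ := IsAlgClosed.isAlgClosure_of_transcendence_basis ((↑) : t → L) ht
  let φ : Algebra.adjoin R (Set.range ((↑) : s → K)) ≃ₐ[R] Algebra.adjoin R (Set.range ((↑) : t → L)) :=
    hs.1.aevalEquiv.symm.trans ((MvPolynomial.renameEquiv R e).trans ht.1.aevalEquiv)
  refine ⟨IsAlgClosure.equivOfEquiv K L φ.toRingEquiv, fun r => ?_⟩
  have h := IsAlgClosure.equivOfEquiv_algebraMap K L φ.toRingEquiv
    (algebraMap R (Algebra.adjoin R (Set.range ((↑) : s → K))) r)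
  rw [show φ.toRingEquiv (algebraMap R _ r) = φ (algebraMap R _ r) from rfl, φ.commutes] at h
  exact h

/-- Any automorphism of a countable subfield extends to `ℂ`. -/
theorem exists_ringEquiv_extend (F : IntermediateField ℚ ℂ) (hF : #F ≤ ℵ₀) (σ : F ≃+* F) :
    ∃ f : ℂ ≃+* ℂ, ∀ r : F, f (r : ℂ) = (σ r : ℂ) := by
  exact @exists_ringEquiv_over F ℂ ℂ _ _ _ _ ((algebraMap F ℂ).comp σ.toRingHom).toAlgebra _ _ hF
    (by rw [Cardinal.mk_complex]; exact Cardinal.aleph0_lt_continuum) rfl

/-- An automorphism of `ℂ` raising the `n`-th roots of unity to the `k`-th power. -/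
theorem exists_ringAut {n k : ℕ} (hn : n ≠ 0) (hk : k.Coprime n) :
    ∃ f : ℂ ≃+* ℂ, ∀ z : ℂ, z ^ n = 1 → f z = z ^ k := by
  have : NeZero n := ⟨hn⟩
  set ζ := Complex.exp (2 * Real.pi * Complex.I / n) with hζdef
  have hζ : IsPrimitiveRoot ζ n := Complex.isPrimitiveRoot_exp n hn
  have hz : IsPrimitiveRoot (IntermediateField.AdjoinSimple.gen ℚ ζ) n :=
    IsPrimitiveRoot.coe_submonoidClass_iff.1 (by simpa using hζ)
  have hcyc : IsCyclotomicExtension {n} ℚ (IntermediateField.adjoin ℚ {ζ}) := by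
    change IsCyclotomicExtension {n} ℚ (IntermediateField.adjoin ℚ {ζ}).toSubalgebra
    rw [IntermediateField.adjoin_simple_toSubalgebra_of_isAlgebraic
      (hζ.isIntegral (NeZero.pos n)).tower_top.isAlgebraic]
    exact hζ.adjoin_isCyclotomicExtension ℚ
  have := IsCyclotomicExtension.finiteDimensional {n} ℚ (IntermediateField.adjoin ℚ {ζ})
  have hirr : Irreducible (Polynomial.cyclotomic n ℚ) :=
    Polynomial.cyclotomic.irreducible_rat (NeZero.pos n)
  let σ := ((IsPrimitiveRoot.powerBasis ℚ hz).equivOfMinpoly (IsPrimitiveRoot.powerBasis ℚ (hz.pow_of_coprime k hk))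
    (by simp only [IsPrimitiveRoot.powerBasis_gen]
        rw [← hz.minpoly_eq_cyclotomic_of_irreducible hirr, ← (hz.pow_of_coprime k hk).minpoly_eq_cyclotomic_of_irreducible hirr]))
  have hσ : σ (IntermediateField.AdjoinSimple.gen ℚ ζ) = (IntermediateField.AdjoinSimple.gen ℚ ζ) ^ k := by
    have := (IsPrimitiveRoot.powerBasis ℚ hz).equivOfMinpoly_gen (IsPrimitiveRoot.powerBasis ℚ (hz.pow_of_coprime k hk))
      (by simp only [IsPrimitiveRoot.powerBasis_gen]
          rw [← hz.minpoly_eq_cyclotomic_of_irreducible hirr, ← (hz.pow_of_coprime k hk).minpoly_eq_cyclotomic_of_irreducible hirr])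
    simpa only [IsPrimitiveRoot.powerBasis_gen] using this
  have hcard : #(IntermediateField.adjoin ℚ {ζ}) ≤ ℵ₀ := by
    have := (Module.finBasis ℚ (IntermediateField.adjoin ℚ {ζ})).equivFun.toEquiv.injective.countable
    exact Cardinal.mk_le_aleph0
  obtain ⟨f, hf⟩ := exists_ringEquiv_extend _ hcard σ.toRingEquiv
  refine ⟨f, fun z hzn => ?_⟩
  obtain ⟨i, -, rfl⟩ := hζ.eq_pow_of_pow_eq_one hzn
  have hfζ : f ζ = ζ ^ k := by
    have h := hf (IntermediateField.AdjoinSimple.gen ℚ ζ)
    rw [show σ.toRingEquiv (IntermediateField.AdjoinSimple.gen ℚ ζ) = σ (IntermediateField.AdjoinSimple.gen ℚ ζ) from rfl, hσ] at h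
    simpa using h
  rw [map_pow, hfζ, ← pow_mul, ← pow_mul, mul_comm]

end Cfsg.Agent.GaloisPow
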