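/-
Galois twists of characters (namespace `Cfsg.Agent.GaloisPow`).

Main results: `isCharacter_twist`, `isIrrCharacter_twist`, `exists_galois` (`f (χ g) = χ (g ^ k)`),
`isIrrCharacter_comp_pow`, `powIrr`, `powPerm`.
-/
import Cfsg.Agent.Lib.GaloisPow.Aut
import Cfsg.Agent.Lib.Char.Orth

set_option autoImplicit false

namespace Cfsg.Agent.GaloisPow

open Cfsg
open scoped ComplexConjugate

variable {G : Type*} [Group G]

/-- Applying a field endomorphism of `ℂ` to a character gives a character. -/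
theorem isCharacter_twist (f : ℂ →+* ℂ) {χ : G → ℂ} (hχ : IsCharacter G χ) :
    IsCharacter G (fun g => f (χ g)) := by
  obtain ⟨n, ρ, rfl⟩ := hχ
  refine ⟨n, { toFun := fun g => Matrix.toLinAlgEquiv' ((LinearMap.toMatrixAlgEquiv' (ρ g)).map f)
               map_one' := by rw [map_one, map_one, Matrix.map_one f (map_zero f) (map_one f), map_one]
               map_mul' := fun g h => by rw [map_mul, map_mul, Matrix.map_mul, map_mul] }, ?_⟩
  funext g
  show LinearMap.trace ℂ _ (Matrix.toLinAlgEquiv' ((LinearMap.toMatrixAlgEquiv' (ρ g)).map f)) = _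
  rw [LinearMap.trace_eq_matrix_trace ℂ (Pi.basisFun ℂ (Fin n)), Representation.character,
    LinearMap.trace_eq_matrix_trace ℂ (Pi.basisFun ℂ (Fin n))]
  simp [Matrix.trace, LinearMap.toMatrix_eq_toMatrix', LinearMap.toMatrixAlgEquiv',
    Matrix.toLinAlgEquiv']

theorem isIrrCharacter_twist [Finite G] (f : ℂ →+* ℂ) {χ : G → ℂ} (hχ : IsIrrCharacter G χ) :
    IsIrrCharacter G (fun g => f (χ g)) := by
  have := Fintype.ofFinite G
  have hc := Char.IsIrrCharacter.isCharacter hχ
  have ht := isCharacter_twist f hc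
  refine (Char.isIrrCharacter_iff_norm_one ht).mpr ?_
  have h := Char.classInner_irr_self hχ
  have e : ∀ g, f (χ g) * conj (f (χ g)) = f (χ g * conj (χ g)) := fun g => by
    rw [← Char.IsCharacter.apply_inv ht g, ← Char.IsCharacter.apply_inv hc g, map_mul]
  rw [classInner] at h ⊢
  rw [Finset.sum_congr rfl fun g _ => e g, ← map_sum]
  have := congrArg f h
  rwa [map_one, map_mul, map_inv₀, map_natCast] at this

/-- For `k` prime to the group order there is one automorphism of `ℂ` doing `χ g ↦ χ (g ^ k)`. -/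
theorem exists_galois (G : Type*) [Group G] [Finite G] {k : ℕ} (hk : k.Coprime (Nat.card G)) :
    ∃ f : ℂ ≃+* ℂ, ∀ χ : G → ℂ, IsCharacter G χ → ∀ g : G, f (χ g) = χ (g ^ k) := by
  obtain ⟨f, hf⟩ := exists_ringAut Nat.card_pos.ne' hk
  refine ⟨f, fun χ hχ g => ?_⟩
  obtain ⟨n, ρ, rfl⟩ := hχ
  obtain ⟨b, μ, hμ, hroot⟩ := Char.exists_eigenbasis ρ g
  rw [Char.character_pow ρ g b μ hμ, Char.character_eq_sum_eigenvalues ρ g b μ hμ, map_sum]
  refine Finset.sum_congr rfl fun i _ => hf _ ?_
  obtain ⟨c, hc⟩ := orderOf_dvd_natCard g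
  rw [hc, pow_mul, hroot i, one_pow]

theorem isIrrCharacter_comp_pow [Finite G] {k : ℕ} (hk : k.Coprime (Nat.card G)) {χ : G → ℂ}
    (hχ : IsIrrCharacter G χ) : IsIrrCharacter G (fun g => χ (g ^ k)) := by
  obtain ⟨f, hf⟩ := exists_galois G hk
  have e : (fun g => χ (g ^ k)) = fun g => f.toRingHom (χ g) :=
    funext fun g => (hf χ (Char.IsIrrCharacter.isCharacter hχ) g).symm
  rw [e]
  exact isIrrCharacter_twist f.toRingHom hχ

/-- The action of `k` on irreducible characters. -/
noncomputable def powIrr [Finite G] {k : ℕ} (hk : k.Coprime (Nat.card G)) (χ : IrrCharacter G) :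
    IrrCharacter G :=
  ⟨fun g => (χ : G → ℂ) (g ^ k), isIrrCharacter_comp_pow hk χ.2⟩

@[simp] theorem powIrr_apply [Finite G] {k : ℕ} (hk : k.Coprime (Nat.card G)) (χ : IrrCharacter G)
    (g : G) : (powIrr hk χ : G → ℂ) g = (χ : G → ℂ) (g ^ k) := rfl

theorem powIrr_iterate [Finite G] {k : ℕ} (hk : k.Coprime (Nat.card G)) (χ : IrrCharacter G)
    (m : ℕ) (g : G) : (((powIrr hk)^[m] χ : IrrCharacter G) : G → ℂ) g = (χ : G → ℂ) (g ^ k ^ m) := by
  induction m generalizing χ with
  | zero => simp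
  | succ m ih => rw [Function.iterate_succ_apply, ih, powIrr_apply, ← pow_mul, ← pow_succ]

theorem powIrr_injective [Finite G] {k : ℕ} (hk : k.Coprime (Nat.card G)) :
    Function.Injective (powIrr (G := G) hk) := fun χ ψ h => Subtype.ext (funext fun g => by
  obtain ⟨a, ha⟩ := (powCoprime hk.symm).surjective g
  have := congrFun (congrArg Subtype.val h) a
  rw [powIrr_apply, powIrr_apply] at this
  rwa [← ha, powCoprime_apply])

/-- `powIrr` as a permutation of the irreducible characters. -/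
noncomputable def powPerm [Finite G] {k : ℕ} (hk : k.Coprime (Nat.card G)) :
    Equiv.Perm (IrrCharacter G) :=
  Equiv.ofBijective (powIrr hk) ⟨powIrr_injective hk, Finite.surjective_of_injective (powIrr_injective hk)⟩

theorem powPerm_pow_eq_one [Finite G] {k m : ℕ} (hk : k.Coprime (Nat.card G))
    (hm : ∀ g : G, g ^ k ^ m = g) : powPerm (G := G) hk ^ m = 1 := by
  refine Equiv.ext fun χ => ?_
  rw [Equiv.Perm.coe_pow, Equiv.Perm.one_apply]
  show (powIrr hk)^[m] χ = χ
  exact Subtype.ext (funext fun g => by rw [powIrr_iterate, hm])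

end Cfsg.Agent.GaloisPow
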